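import Mathlib

set_option autoImplicit false
universe u

open AlgebraicGeometry CategoryTheory IsLocalRing

namespace Groth.Agent.ArtinFactorLib

/-- The affine step: adjoin coefficients forcing congruences modulo `J`. -/
theorem exists_algebra {A B C : Type u} [CommRing A] [CommRing B] [Algebra A B] [Algebra.FiniteType A B] [CommRing C]
    (ρ : A →+* C) (σ : B →+* C) (hσ : σ.comp (algebraMap A B) = ρ) (J : Ideal C) {l : ℕ} (g : Fin l → A)
    (hg : J = Ideal.span (Set.range fun j => ρ (g j)))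
    (happ : ∀ b : B, ∃ n d : A, IsUnit (ρ d) ∧ ρ d * σ b - ρ n ∈ J) :
    ∃ (B' : Type u) (_ : CommRing B') (φ : B →+* B') (τ : B' →+* C), φ.FiniteType ∧ τ.comp φ = σ ∧
      ∀ τ' : B' →+* C, (τ'.comp φ).comp (algebraMap A B) = ρ → ∀ b : B, σ b - τ' (φ b) ∈ J := by
  classical
  obtain ⟨m, a, ha⟩ : ∃ (m : ℕ) (a : Fin m → B), Algebra.adjoin A (Set.range a) = ⊤ := by
    obtain ⟨s, hs⟩ := Algebra.FiniteType.out (R := A) (A := B)
    refine ⟨s.card, fun i => ((s.equivFin).symm i : B), ?_⟩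
    rw [← hs]; congr 1; ext x; constructor
    · rintro ⟨i, rfl⟩; exact ((s.equivFin).symm i).2
    · intro hx; exact ⟨s.equivFin ⟨x, hx⟩, by simp⟩
  choose n d hd hnd using fun i => happ (a i)
  have hy : ∀ i, ∃ y : Fin l → C, ∑ j, y j * ρ (g j) = ρ (d i) * σ (a i) - ρ (n i) := fun i => by
    have := hnd i; rw [hg] at this
    obtain ⟨c, hc⟩ := (Submodule.mem_span_range_iff_exists_fun C).1 this
    exact ⟨c, by simpa [smul_eq_mul] using hc⟩
  choose y hy using hy
  let P := MvPolynomial (Fin m × Fin l) B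
  let rel : Fin m → P := fun i => MvPolynomial.C (algebraMap A B (d i) * a i - algebraMap A B (n i)) -
    ∑ j, MvPolynomial.X (i, j) * MvPolynomial.C (algebraMap A B (g j))
  let I : Ideal P := Ideal.span (Set.range rel)
  let e : P →+* C := MvPolynomial.eval₂Hom σ (fun ij => y ij.1 ij.2)
  have hσ' : ∀ r, σ (algebraMap A B r) = ρ r := fun r => by rw [← hσ]; rfl
  have hC : ∀ b : B, e (MvPolynomial.C b) = σ b := fun b => MvPolynomial.eval₂_C σ _ b
  have hX : ∀ ij, e (MvPolynomial.X ij) = y ij.1 ij.2 := fun ij => MvPolynomial.eval₂_X σ _ ij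
  have he : I ≤ RingHom.ker e := by
    rw [Ideal.span_le]
    rintro _ ⟨i, rfl⟩
    change e (rel i) = 0
    simp only [rel, map_sub, map_sum, hC, map_mul, hX, hσ', hy, sub_self]
  refine ⟨P ⧸ I, inferInstance, (Ideal.Quotient.mk I).comp MvPolynomial.C, Ideal.Quotient.lift I e he, ?_, ?_, ?_⟩
  · exact (RingHom.FiniteType.of_surjective _ Ideal.Quotient.mk_surjective).comp
      ((RingHom.finiteType_algebraMap (A := B) (B := P)).2 inferInstance)
  · ext b
    change e (MvPolynomial.C b) = σ b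
    exact MvPolynomial.eval₂_C σ _ b
  · intro τ' hτ'
    let φ := (Ideal.Quotient.mk I).comp MvPolynomial.C
    let q := Ideal.Quotient.mk J
    have hgen : ∀ i, q (σ (a i)) = q (τ' (φ (a i))) := by
      intro i
      have hr : τ' (φ (algebraMap A B (d i) * a i - algebraMap A B (n i))) =
          ∑ j, τ' (Ideal.Quotient.mk I (MvPolynomial.X (i, j))) * ρ (g j) := by
        have hrel : Ideal.Quotient.mk I (rel i) = 0 :=
          Ideal.Quotient.eq_zero_iff_mem.2 (Ideal.subset_span ⟨i, rfl⟩)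
        simp only [rel, map_sub, map_sum, map_mul] at hrel
        rw [sub_eq_zero] at hrel
        change τ' (Ideal.Quotient.mk I (MvPolynomial.C _)) = _
        rw [map_sub, map_mul, map_sub, map_mul, hrel, map_sum]
        refine Finset.sum_congr rfl fun j _ => ?_
        rw [map_mul, ← hτ']; rfl
      have h0 : ∀ j, q (ρ (g j)) = 0 := fun j => Ideal.Quotient.eq_zero_iff_mem.2 (hg ▸ Ideal.subset_span ⟨j, rfl⟩)
      have h1 := congrArg q hr
      rw [map_sum, Finset.sum_eq_zero (fun j _ => by rw [map_mul, h0, mul_zero])] at h1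
      simp only [map_sub, map_mul] at h1
      have h2 : ∀ r, τ' (φ (algebraMap A B r)) = ρ r := fun r => by rw [← hτ']; rfl
      rw [h2, h2] at h1
      have h3 : q (ρ (d i) * σ (a i) - ρ (n i)) = 0 := Ideal.Quotient.eq_zero_iff_mem.2 (hnd i)
      rw [map_sub, map_mul] at h3
      exact ((hd i).map q).mul_left_cancel (by linear_combination h3 - h1)
    intro b
    have hb : b ∈ Algebra.adjoin A (Set.range a) := by rw [ha]; trivial
    rw [← Ideal.Quotient.eq]
    induction hb using Algebra.adjoin_induction with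
    | mem x hx => obtain ⟨i, rfl⟩ := hx; exact hgen i
    | algebraMap r => rw [hσ', ← hτ']; rfl
    | add x y _ _ hx hy => simp only [map_add] at hx hy ⊢; rw [hx, hy]
    | mul x y _ _ hx hy => simp only [map_mul] at hx hy ⊢; rw [hx, hy]

theorem main {T S : Scheme.{u}} [IsNoetherian T] [IsNoetherian S]
    (h : T ⟶ S) [LocallyOfFiniteType h] (t : T)
    (σ : ↑(T.presheaf.stalk t) →+* (AdicCompletion (maximalIdeal ↑(S.presheaf.stalk (h t))) ↑(S.presheaf.stalk (h t))))
    (hσ : σ.comp (h.stalkMap t).hom = algebraMap ↑(S.presheaf.stalk (h t)) (AdicCompletion (maximalIdeal ↑(S.presheaf.stalk (h t))) ↑(S.presheaf.stalk (h t))))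
    (hloc : ∀ a ∈ maximalIdeal ↑(T.presheaf.stalk t),
      σ a ∈ (maximalIdeal ↑(S.presheaf.stalk (h t))).map (algebraMap ↑(S.presheaf.stalk (h t)) (AdicCompletion (maximalIdeal ↑(S.presheaf.stalk (h t))) ↑(S.presheaf.stalk (h t)))))
    (N : ℕ) :
    ∃ (T' : Scheme.{u}) (g : T' ⟶ T) (t' : T') (hg : g t' = t) (τ : ↑(T'.presheaf.stalk t') →+* (AdicCompletion (maximalIdeal ↑(S.presheaf.stalk (h t))) ↑(S.presheaf.stalk (h t)))),
      LocallyOfFiniteType g ∧ QuasiCompact g ∧
      τ.comp ((g.stalkMap t').hom.comp (T.presheaf.stalkCongr (Inseparable.of_eq hg)).inv.hom) = σ ∧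
      ∀ (σ' : ↑(T.presheaf.stalk t) →+* (AdicCompletion (maximalIdeal ↑(S.presheaf.stalk (h t))) ↑(S.presheaf.stalk (h t)))),
        σ'.comp (h.stalkMap t).hom = algebraMap ↑(S.presheaf.stalk (h t)) (AdicCompletion (maximalIdeal ↑(S.presheaf.stalk (h t))) ↑(S.presheaf.stalk (h t))) →
        (∃ τ' : ↑(T'.presheaf.stalk t') →+* (AdicCompletion (maximalIdeal ↑(S.presheaf.stalk (h t))) ↑(S.presheaf.stalk (h t))),
          τ'.comp ((g.stalkMap t').hom.comp (T.presheaf.stalkCongr (Inseparable.of_eq hg)).inv.hom) = σ') →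
        ∀ a : ↑(T.presheaf.stalk t), σ a - σ' a ∈ (maximalIdeal ↑(S.presheaf.stalk (h t)) ^ N).map (algebraMap ↑(S.presheaf.stalk (h t)) (AdicCompletion (maximalIdeal ↑(S.presheaf.stalk (h t))) ↑(S.presheaf.stalk (h t)))) := by
  classical
  obtain ⟨_, ⟨U, hU, rfl⟩, hsU, -⟩ :=
    S.isBasis_affineOpens.exists_subset_of_mem_open (Set.mem_univ (h t)) isOpen_univ
  obtain ⟨_, ⟨V, hV, rfl⟩, htV, hVU⟩ :=
    T.isBasis_affineOpens.exists_subset_of_mem_open (show t ∈ (h ⁻¹ᵁ U : Set T) from hsU) (h ⁻¹ᵁ U).isOpen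
  let Os := S.presheaf.stalk (h t)
  let C := AdicCompletion (maximalIdeal Os) Os
  haveI : IsNoetherianRing Os := inferInstance
  haveI : IsNoetherianRing Γ(S, U) := IsLocallyNoetherian.component_noetherian ⟨U, hU⟩
  letI : Algebra Γ(S, U) Os := TopCat.Presheaf.algebra_section_stalk S.presheaf ⟨h t, hsU⟩
  haveI hlocS : IsLocalization.AtPrime Os (hU.primeIdealOf ⟨h t, hsU⟩).asIdeal := hU.isLocalization_stalk ⟨h t, hsU⟩
  letI : Algebra Γ(T, V) (T.presheaf.stalk t) := TopCat.Presheaf.algebra_section_stalk T.presheaf ⟨t, htV⟩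
  haveI hlocT : IsLocalization.AtPrime (T.presheaf.stalk t) (hV.primeIdealOf ⟨t, htV⟩).asIdeal :=
    hV.isLocalization_stalk ⟨t, htV⟩
  let p := (hU.primeIdealOf ⟨h t, hsU⟩).asIdeal
  letI : Algebra Γ(S, U) Γ(T, V) := (h.appLE U V hVU).hom.toAlgebra
  haveI : Algebra.FiniteType Γ(S, U) Γ(T, V) := h.finiteType_appLE hU hV hVU
  let ρ : Γ(S, U) →+* C := (algebraMap Os C).comp (S.presheaf.germ U (h t) hsU).hom
  let σ₀ : Γ(T, V) →+* C := σ.comp (T.presheaf.germ V t htV).hom
  have hgerm : (h.stalkMap t).hom.comp (S.presheaf.germ U (h t) hsU).hom =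
      (T.presheaf.germ V t htV).hom.comp (h.appLE U V hVU).hom := by
    rw [← CommRingCat.hom_comp, ← CommRingCat.hom_comp]
    congr 1
    simp [Scheme.Hom.germ_stalkMap, Scheme.Hom.appLE, TopCat.Presheaf.germ_res]
  have hσ₀ : σ₀.comp (algebraMap Γ(S, U) Γ(T, V)) = ρ := by
    change (σ.comp _).comp (h.appLE U V hVU).hom = (algebraMap Os C).comp _
    rw [RingHom.comp_assoc, ← hgerm, ← RingHom.comp_assoc, hσ]
  let J : Ideal C := (maximalIdeal Os ^ N).map (algebraMap Os C)
  obtain ⟨l, gen, hgen⟩ := Submodule.fg_iff_exists_fin_generating_family.1 ((p ^ N).fg_of_isNoetherianRing)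
  have hJ : J = Ideal.span (Set.range fun j => ρ (gen j)) := by
    change Ideal.map (algebraMap Os C) (maximalIdeal Os ^ N) = _
    refine (congrArg (fun I : Ideal Os => Ideal.map (algebraMap Os C) (I ^ N)) (IsLocalization.AtPrime.map_eq_maximalIdeal p Os).symm).trans ?_
    rw [← Ideal.map_pow, Ideal.map_map, ← hgen, Ideal.map_span, ← Set.range_comp]
    rfl
  have happ : ∀ b : Γ(T, V), ∃ n d : Γ(S, U), IsUnit (ρ d) ∧ ρ d * σ₀ b - ρ n ∈ J := by
    intro b
    obtain ⟨c, hc⟩ := Ideal.Quotient.mk_surjective (AdicCompletion.evalₐ (maximalIdeal Os) N (σ₀ b))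
    obtain ⟨⟨n, d⟩, hnd⟩ := IsLocalization.surj p.primeCompl c
    refine ⟨n, d, ((IsLocalization.map_units Os d).map (algebraMap Os C)), ?_⟩
    have h1 : σ₀ b - algebraMap Os C c ∈ J := by
      have hJker : ∀ x : C, x ∈ J ↔ AdicCompletion.evalₐ (maximalIdeal Os) N x = 0 := fun x => by
        have h : (maximalIdeal Os ^ N • ⊤ : Ideal Os) = maximalIdeal Os ^ N := by ext; simp
        change x ∈ Ideal.map _ _ ↔ _
        rw [← Submodule.restrictScalars_mem Os, ← Ideal.smul_top_eq_map,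
          AdicCompletion.pow_smul_top_eq_ker_eval (maximalIdeal Os).fg_of_isNoetherianRing, LinearMap.mem_ker]
        exact (map_eq_zero_iff (Ideal.quotientEquivAlgOfEq Os h) (AlgEquiv.injective _)).symm
      rw [hJker, map_sub, AlgHom.commutes, Ideal.Quotient.algebraMap_eq, hc, sub_self]
    have e : ρ (d : Γ(S, U)) * σ₀ b - ρ n = ρ (d : Γ(S, U)) * (σ₀ b - algebraMap Os C c) := by
      rw [mul_sub]
      congr 1
      change algebraMap Os C (algebraMap Γ(S, U) Os n) = algebraMap Os C (algebraMap Γ(S, U) Os d) * _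
      rw [← map_mul, ← hnd, mul_comm]
    rw [e]; exact Ideal.mul_mem_left _ _ h1
  obtain ⟨B', _, φ, τ₀, hφ, hτφ, huniv⟩ := exists_algebra ρ σ₀ hσ₀ J gen hJ happ
  haveI : IsLocalRing C := inferInstance
  let q : Ideal B' := (maximalIdeal C).comap τ₀
  haveI hqp : q.IsPrime := Ideal.IsPrime.comap _
  let t' : ↥(Spec (CommRingCat.of B')) := ⟨q, hqp⟩
  let g : Spec (CommRingCat.of B') ⟶ T := Spec.map (CommRingCat.ofHom φ) ≫ hV.fromSpec
  have hσloc : ∀ a, σ a ∈ maximalIdeal C ↔ a ∈ maximalIdeal (T.presheaf.stalk t) := by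
    intro a
    constructor
    · intro ha
      rw [mem_maximalIdeal, mem_nonunits_iff] at ha ⊢
      exact fun hu => ha (hu.map σ)
    · intro ha
      rw [AdicCompletion.maximalIdeal_eq_map]
      exact hloc a ha
  have hq : q.comap φ = (hV.primeIdealOf ⟨t, htV⟩).asIdeal := by
    rw [Ideal.comap_comap, hτφ]
    ext b
    rw [Ideal.mem_comap]
    exact (hσloc _).trans (IsLocalization.AtPrime.to_map_mem_maximal_iff (T.presheaf.stalk t) _ b)
  have hg : g t' = t := by
    have e : Spec.map (CommRingCat.ofHom φ) t' = hV.primeIdealOf ⟨t, htV⟩ := PrimeSpectrum.ext hq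
    change hV.fromSpec (Spec.map (CommRingCat.ofHom φ) t') = t
    rw [e, hV.fromSpec_primeIdealOf]
  letI : Algebra B' ((Spec (CommRingCat.of B')).presheaf.stalk t') :=
    (StructureSheaf.toStalk B' t').hom.toAlgebra
  haveI : IsLocalization.AtPrime ((Spec (CommRingCat.of B')).presheaf.stalk t') q :=
    StructureSheaf.IsLocalization.to_stalk B' t'
  let τ : ↑((Spec (CommRingCat.of B')).presheaf.stalk t') →+* C :=
    IsLocalization.lift (M := q.primeCompl) (g := τ₀) fun x => notMem_maximalIdeal.1 x.2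
  have hpre : g ⁻¹ᵁ V = ⊤ := by
    change Spec.map (CommRingCat.ofHom φ) ⁻¹ᵁ (hV.fromSpec ⁻¹ᵁ V) = ⊤
    rw [hV.fromSpec_preimage_self, Scheme.Hom.preimage_top]
  have happ : g.appLE V ⊤ hpre.ge = CommRingCat.ofHom φ ≫ (Scheme.ΓSpecIso (CommRingCat.of B')).inv := by
    have h1 : hV.fromSpec.appLE V ⊤ hV.fromSpec_preimage_self.ge = (Scheme.ΓSpecIso Γ(T, V)).inv := by
      simp [Scheme.Hom.appLE, hV.fromSpec_app_self, ← Functor.map_comp]
    rw [← Scheme.Hom.appLE_comp_appLE (Spec.map (CommRingCat.ofHom φ)) hV.fromSpec V ⊤ ⊤ hV.fromSpec_preimage_self.ge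
      (by simp), h1, Scheme.ΓSpecIso_inv_naturality]
    simp [Scheme.Hom.appLE]
    rfl
  let Ψ : T.presheaf.stalk t →+* ↑((Spec (CommRingCat.of B')).presheaf.stalk t') :=
    (g.stalkMap t').hom.comp (T.presheaf.stalkCongr (Inseparable.of_eq hg)).inv.hom
  have key : ∀ b, Ψ (T.presheaf.germ V t htV b) = algebraMap B' _ (φ b) := by
    intro b
    have e : T.presheaf.germ V t htV ≫ (T.presheaf.stalkCongr (Inseparable.of_eq hg)).inv ≫ g.stalkMap t' =
        CommRingCat.ofHom φ ≫ StructureSheaf.toStalk B' t' := by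
      refine (TopCat.Presheaf.germ_stalkSpecializes_assoc T.presheaf htV (Inseparable.of_eq hg).specializes _).trans ?_
      rw [Scheme.Hom.germ_stalkMap]
      rw [show g.app V ≫ (Spec (CommRingCat.of B')).presheaf.germ (g ⁻¹ᵁ V) t' (show g t' ∈ V by rw [hg]; exact htV) =
        g.appLE V ⊤ hpre.ge ≫ (Spec (CommRingCat.of B')).presheaf.germ ⊤ t' trivial from by
          rw [Scheme.Hom.appLE, Category.assoc]; erw [TopCat.Presheaf.germ_res], happ, Category.assoc]
      rfl
    exact congrArg (fun k => k.hom b) e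
  refine ⟨_, g, t', hg, τ, ?_, inferInstance, ?_, ?_⟩
  · haveI : LocallyOfFiniteType (Spec.map (CommRingCat.ofHom φ)) :=
      (HasRingHomProperty.Spec_iff (P := @LocallyOfFiniteType)).2 hφ
    haveI : IsOpenImmersion hV.fromSpec := hV.isOpenImmersion_fromSpec
    exact inferInstanceAs (LocallyOfFiniteType (Spec.map (CommRingCat.ofHom φ) ≫ hV.fromSpec))
  · refine IsLocalization.ringHom_ext (hV.primeIdealOf ⟨t, htV⟩).asIdeal.primeCompl (RingHom.ext fun b => ?_)
    change τ (Ψ (T.presheaf.germ V t htV b)) = σ₀ b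
    rw [key, IsLocalization.lift_eq, ← hτφ]; rfl
  · intro σ' hσ' ⟨τ', hτ'⟩ a
    have hb : ∀ b, σ₀ b - σ' (T.presheaf.germ V t htV b) ∈ J := by
      intro b
      have h1 : σ' (T.presheaf.germ V t htV b) = (τ'.comp (algebraMap B' _)) (φ b) := by
        rw [← hτ']; exact congrArg τ' (key b)
      rw [h1]
      refine huniv _ ?_ b
      refine RingHom.ext fun r => ?_
      change τ' (algebraMap B' _ (φ (h.appLE U V hVU r))) = ρ r
      rw [← key]
      change (τ'.comp Ψ) _ = _
      rw [hτ']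
      change (σ'.comp ((T.presheaf.germ V t htV).hom.comp (h.appLE U V hVU).hom)) r = _
      rw [← hgerm, ← RingHom.comp_assoc, hσ']
    have hall : (Ideal.Quotient.mk J).comp σ = (Ideal.Quotient.mk J).comp σ' :=
      IsLocalization.ringHom_ext (hV.primeIdealOf ⟨t, htV⟩).asIdeal.primeCompl
        (RingHom.ext fun b => Ideal.Quotient.eq.2 (hb b))
    exact Ideal.Quotient.eq.1 (RingHom.congr_fun hall a)

end Groth.Agent.ArtinFactorLib
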